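import Cfsg.Agent.H360.Iso.Basic
import Cfsg.Agent.H377.SpElt
import Cfsg.Agent.H377.OddThree

/-!
# Isolated numbers of `PSp_{2m}(q)` and `Ω_{2m+1}(q)` (helper360)

`psp`, `omegaOdd`: the isolated number `n` is one of `A`, `B = A + 1` or `A + 2` (`A = (q^m-1)/(2,q-1)`,
`B = (q^m+1)/(2,q-1)`), and both `A`, `B` are element orders.
-/

set_option autoImplicit false

namespace Cfsg.Agent.H360.Iso

open Cfsg Cfsg.Agent.H377

/-- `A`, `B` are element orders, `n ∈ {A, B}` -/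
def Twin (T : Type*) [Group T] (n A B : ℕ) : Prop :=
  (n = A ∨ n = B) ∧ (∃ x : T, orderOf x = A) ∧ (∃ x : T, orderOf x = B)

/-- the abstract argument for both families -/
theorem twin_of {T : Type*} [Group T] [Finite T] {n q m A B c : ℕ} (h : IsoN T n) (hq : 1 < q) (hm : 2 ≤ m)
    (hc : (c = 1 ∧ Even q) ∨ (c = 2 ∧ Odd q)) (hA : c * A = q ^ m - 1) (hB : c * B = q ^ m + 1)
    (eA : ∃ x : T, orderOf x = A) (eB : ∃ x : T, orderOf x = B)
    (hcard : Nat.card T ∣ q ^ (m ^ 2) * ∏ i ∈ Finset.range m, (q ^ (2 * (i + 1)) - 1))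
    (h2 : ∀ u : ℕ, u.Prime → u ≠ 2 → u ∣ q → H94.PG.Adj T u 2)
    (hadj : ∀ u i : ℕ, u.Prime → u ≠ 2 → 1 ≤ i → i < m → u ∣ q ^ (2 * i) - 1 → H94.PG.Adj T u 2) :
    Twin T n A B := by
  refine ⟨?_, eA, eB⟩
  have hpos : 1 ≤ q ^ m := Nat.one_le_pow _ _ (by omega)
  -- `n ∣ (q^m-1)(q^m+1)`
  have hn0 : n ∣ (q ^ m - 1) * (q ^ m + 1) := by
    have h1 : n ∣ q ^ (m ^ 2) * ∏ i ∈ Finset.range m, (q ^ (2 * (i + 1)) - 1) := h.dvd_card.trans hcard
    obtain ⟨k, rfl⟩ : ∃ k, m = k + 1 := ⟨m - 1, by omega⟩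
    rw [Finset.prod_range_succ] at h1
    have h3 : n ∣ (∏ i ∈ Finset.range k, (q ^ (2 * (i + 1)) - 1)) * (q ^ (2 * (k + 1)) - 1) :=
      dvd_of_primes h1 fun r hr hrn hd =>
        h.not_adj hrn (h2 r hr (h.ne_two hrn) (hr.dvd_of_dvd_pow hd))
    have h4 : n ∣ q ^ (2 * (k + 1)) - 1 := dvd_of_primes h3 fun r hr hrn =>
      not_dvd_prod (fun i hi hd => by
        rw [Finset.mem_range] at hi
        exact h.not_adj hrn (hadj r (i + 1) hr (h.ne_two hrn) (by omega) (by omega) hd)) hr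
    have h5 : q ^ (2 * (k + 1)) - 1 = (q ^ (k + 1) - 1) * (q ^ (k + 1) + 1) := by
      rw [mul_comm 2, pow_mul, mul_comm, ← Nat.sq_sub_sq, one_pow]
    rwa [h5] at h4
  have hnA : ∀ r : ℕ, r.Prime → r ∣ n → r ∣ q ^ m - 1 → A ∣ n := by
    intro r hr hrn hd
    refine h.dvd_of_elt eA hr hrn ?_
    rw [← hA] at hd
    rcases (Nat.Prime.dvd_mul hr).1 hd with h3 | h3
    · exfalso
      rcases hc with ⟨rfl, -⟩ | ⟨rfl, -⟩
      · exact hr.one_lt.ne' (Nat.dvd_one.1 h3)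
      · exact h.ne_two hrn ((Nat.prime_dvd_prime_iff_eq hr Nat.prime_two).1 h3)
    · exact h3
  have hnB : ∀ r : ℕ, r.Prime → r ∣ n → r ∣ q ^ m + 1 → B ∣ n := by
    intro r hr hrn hd
    refine h.dvd_of_elt eB hr hrn ?_
    rw [← hB] at hd
    rcases (Nat.Prime.dvd_mul hr).1 hd with h3 | h3
    · exfalso
      rcases hc with ⟨rfl, -⟩ | ⟨rfl, -⟩
      · exact hr.one_lt.ne' (Nat.dvd_one.1 h3)
      · exact h.ne_two hrn ((Nat.prime_dvd_prime_iff_eq hr Nat.prime_two).1 h3)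
    · exact h3
  have hco : ∀ {C : ℕ}, n ∣ c * C → n ∣ C := by
    intro C hC
    rcases hc with ⟨rfl, -⟩ | ⟨rfl, -⟩
    · rwa [one_mul] at hC
    · exact dvd_of_odd_two_mul hC h.odd
  -- not both
  have hnot : ¬ (A ∣ n ∧ B ∣ n) := by
    rintro ⟨ha, hb⟩
    rcases hc with ⟨rfl, he⟩ | ⟨rfl, ho⟩
    · rw [one_mul] at hA hB
      -- a prime of `q + 1`
      obtain ⟨s, hs, hsd⟩ := Nat.exists_prime_and_dvd (n := q + 1) (by omega)
      have hs2 : s ≠ 2 := by
        rintro rfl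
        have h1 : Even (q + 1) := even_iff_two_dvd.2 hsd
        exact (Nat.not_even_iff_odd.2 (he.add_one)) h1
      have hsn : s ∣ n := by
        rcases Nat.even_or_odd m with hm' | hm'
        · refine dvd_trans ?_ ha
          rw [hA]
          obtain ⟨k, hk⟩ := hm'
          have h1 : q ^ 2 - 1 ∣ q ^ m - 1 := by
            rw [hk, ← two_mul, pow_mul]
            exact Nat.sub_one_dvd_pow_sub_one _ _
          refine dvd_trans ?_ h1
          have h2 : q ^ 2 - 1 = (q + 1) * (q - 1) := by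
            have := Nat.sq_sub_sq q 1
            rwa [one_pow] at this
          rw [h2]
          exact Dvd.dvd.mul_right hsd _
        · refine dvd_trans ?_ hb
          rw [hB]
          exact hsd.trans (two_torus hm')
      refine h.not_adj hsn (hadj s 1 hs hs2 le_rfl (by omega) ?_)
      have h2 : q ^ (2 * 1) - 1 = (q + 1) * (q - 1) := by
        have := Nat.sq_sub_sq q 1
        rwa [one_pow] at this
      rw [h2]
      exact Dvd.dvd.mul_right hsd _
    · -- parity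
      have h1 : Odd A := h.odd.of_dvd_nat ha
      have h3 : Odd B := h.odd.of_dvd_nat hb
      have h4 : B = A + 1 := by omega
      rw [h4] at h3
      exact (Nat.not_even_iff_odd.2 h3) h1.add_one
  by_cases hA' : A ∣ n
  · left
    refine Nat.dvd_antisymm ?_ hA'
    apply hco
    rw [hA]
    rw [mul_comm] at hn0
    refine dvd_of_primes hn0 fun r hr hrn hd => hnot ⟨hA', hnB r hr hrn hd⟩
  · right
    have h1 : n ∣ q ^ m + 1 := dvd_of_primes hn0 fun r hr hrn hd => hA' (hnA r hr hrn hd)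
    obtain ⟨r, hr, hrn⟩ := h.exists_prime
    refine Nat.dvd_antisymm ?_ (hnB r hr hrn (hrn.trans h1))
    apply hco
    rwa [hB]

section

variable {F : Type*} [Field F] [Finite F]

/-- **`PSp_{2m}(q)`** -/
theorem psp {m n : ℕ} (hm : 2 ≤ m) (h : IsoN (PSp m F) n) :
    ∃ A B : ℕ, (A + 1 = B ∨ A + 2 = B) ∧ Twin (PSp m F) n A B := by
  classical
  letI := Fintype.ofFinite F
  have hq : 1 < Nat.card F := Finite.one_lt_card
  have hfin : Finite (PSp m F) := inferInstance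
  have hcard : Nat.card (PSp m F) ∣ Nat.card F ^ (m ^ 2) *
      ∏ i ∈ Finset.range m, (Nat.card F ^ (2 * (i + 1)) - 1) := by
    have h1 : Nat.card (PSp m F) ∣ Nat.card (Matrix.symplecticGroup (Fin m) F) := Subgroup.card_quotient_dvd_card _
    rwa [Cfsg.Agent.S0245.result (F := F) rfl m, ← Nat.card_eq_fintype_card] at h1
  have hadj : ∀ u i : ℕ, u.Prime → u ≠ 2 → 1 ≤ i → i < m → u ∣ Nat.card F ^ (2 * i) - 1 →
      H94.PG.Adj (PSp m F) u 2 := fun u i hu hu2 hi him hd => psp_adj_two_of_dvd hi him hu hu2 hd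
  have hchar : ∀ u : ℕ, u.Prime → u ≠ 2 → u ∣ Nat.card F → H94.PG.Adj (PSp m F) u 2 :=
    fun u hu hu2 hd => psp_adj_two_of_char hm hu hu2 hd
  have hpow : 2 ≤ Nat.card F ^ m := le_trans (by omega) (Nat.le_self_pow (by omega) _)
  rcases Nat.even_or_odd (Nat.card F) with he | ho
  · have hev : Even (Nat.card F ^ m) := Nat.even_pow.2 ⟨he, by omega⟩
    have oA : Odd (Nat.card F ^ m - 1) := by
      obtain ⟨k, hk⟩ := hev
      exact ⟨k - 1, by omega⟩
    refine ⟨Nat.card F ^ m - 1, Nat.card F ^ m + 1, Or.inr (by omega), ?_⟩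
    exact twin_of h hq hm (Or.inl ⟨rfl, he⟩) (one_mul _) (one_mul _)
      (exists_psp_tor_plus (by omega) (by omega) (Or.inl ⟨oA, dvd_rfl⟩))
      (exists_psp_tor_minus (by omega) (by omega) (Or.inl ⟨hev.add_one, dvd_rfl⟩)) hcard hchar hadj
  · have hod : Odd (Nat.card F ^ m) := ho.pow
    obtain ⟨k, hk⟩ := hod
    refine ⟨k, k + 1, Or.inl rfl, ?_⟩
    exact twin_of h hq hm (Or.inr ⟨rfl, ho⟩) (by omega) (by omega)
      (exists_psp_tor_plus (by omega) (by omega) (Or.inr ⟨1, by omega⟩))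
      (exists_psp_tor_minus (by omega) (by omega) (Or.inr ⟨1, by omega⟩)) hcard hchar hadj

/-- **`Ω_{2m+1}(q)`** -/
theorem omegaOdd (ho : Odd (Nat.card F)) {m n : ℕ} (hm : 3 ≤ m) (h : IsoN (POmega F (quadFormOdd m F)) n) :
    ∃ A B : ℕ, (A + 1 = B ∨ A + 2 = B) ∧ Twin (POmega F (quadFormOdd m F)) n A B := by
  classical
  letI := Fintype.ofFinite F
  have hq : 1 < Nat.card F := Finite.one_lt_card
  have hfin : Finite (POmega F (quadFormOdd m F)) := inferInstance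
  have hcard : Nat.card (POmega F (quadFormOdd m F)) ∣ Nat.card F ^ (m ^ 2) *
      ∏ i ∈ Finset.range m, (Nat.card F ^ (2 * (i + 1)) - 1) := by
    have h1 := Cfsg.Agent.S0292.result (F := F) rfl (by rwa [← Nat.card_eq_fintype_card]) m hm
    rw [← Nat.card_eq_fintype_card] at h1
    rw [← h1]
    exact dvd_mul_left _ _
  have hpow : 2 ≤ Nat.card F ^ m := le_trans (by omega) (Nat.le_self_pow (by omega) _)
  have hod : Odd (Nat.card F ^ m) := ho.pow
  obtain ⟨k, hk⟩ := hod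
  refine ⟨k, k + 1, Or.inl rfl, ?_⟩
  refine twin_of h hq (by omega) (Or.inr ⟨rfl, ho⟩) (by omega) (by omega)
      (OOdd.exists_even_tor ho hm (elt_tor_plus (by omega) (N := 2 * k) ⟨1, by omega⟩))
      (OOdd.exists_even_tor ho hm (elt_tor_minus (by omega) (N := 2 * (k + 1)) ⟨1, by omega⟩)) hcard
      (fun u hu hu2 hd => OOdd.adj_two_of_char ho hm hu hu2 hd)
      (fun u i hu hu2 hi him hd => OOdd.adj_two_of_dvd ho hm hi him hu hu2 hd)

end

end Cfsg.Agent.H360.Iso
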