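import Cfsg.Agent.H360.Iso.UniElt

/-!
# Isolated numbers of `PSU n F q`, `n ≥ 3` (helper360)
-/

set_option autoImplicit false

namespace Cfsg.Agent.H360.Iso

open Cfsg Cfsg.Agent.H948.UBase Cfsg.Agent.H948.UProd Cfsg.Agent.H948.UTorus Cfsg.Agent.H948.UMain
open Cfsg.Agent.H564.NearTwo (Near)

theorem ph_cast {q : ℕ} (hq : 1 ≤ q) (i : ℕ) : (ph q i : ℤ) = (q : ℤ) ^ (i + 1) - (-1) ^ (i + 1) := by
  have h1 : 1 ≤ q ^ (i + 1) := Nat.one_le_pow _ _ hq
  rcases Nat.even_or_odd i with hi | hi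
  · rw [ph_even hi, (hi.add_one).neg_one_pow]
    push_cast
    ring
  · rw [ph_odd (Nat.not_even_iff_odd.2 hi), (hi.add_one).neg_one_pow]
    push_cast [h1]
    ring

/-- `ph q i = (q + 1) * S` with `S ≡ ± (i + 1) mod q + 1` -/
theorem ph_geom {q : ℕ} (hq : 1 ≤ q) (i : ℕ) : ∃ S : ℕ, ph q i = (q + 1) * S ∧
    ∀ d : ℕ, d ∣ q + 1 → d ∣ i + 1 → d ∣ S := by
  have h1 : (∑ j ∈ Finset.range (i + 1), (q : ℤ) ^ j * (-1) ^ (i + 1 - 1 - j)) * ((q : ℤ) - (-1)) =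
      (q : ℤ) ^ (i + 1) - (-1) ^ (i + 1) := Commute.geom_sum₂_mul (Commute.all _ _) _
  rw [← ph_cast hq, sub_neg_eq_add] at h1
  have h2 : ((q + 1 : ℕ) : ℤ) ∣ (ph q i : ℤ) := by
    rw [← h1]
    push_cast
    exact dvd_mul_left _ _
  obtain ⟨S, hS⟩ : q + 1 ∣ ph q i := by exact_mod_cast h2
  refine ⟨S, hS, fun d hd1 hd2 => ?_⟩
  have h3 : (S : ℤ) = ∑ j ∈ Finset.range (i + 1), (q : ℤ) ^ j * (-1) ^ (i + 1 - 1 - j) := by
    have h4 : (S : ℤ) * ((q : ℤ) + 1) =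
        (∑ j ∈ Finset.range (i + 1), (q : ℤ) ^ j * (-1) ^ (i + 1 - 1 - j)) * ((q : ℤ) + 1) := by
      rw [h1, hS]
      push_cast
      ring
    exact mul_right_cancel₀ (by omega : ((q : ℤ) + 1) ≠ 0) h4
  have h5 : (d : ℤ) ∣ (S : ℤ) := by
    rw [h3]
    have hqd : (q : ℤ) ≡ -1 [ZMOD d] := by
      apply Int.ModEq.symm
      rw [Int.modEq_iff_dvd, sub_neg_eq_add]
      exact_mod_cast hd1
    have h6 : (∑ j ∈ Finset.range (i + 1), (q : ℤ) ^ j * (-1) ^ (i + 1 - 1 - j)) ≡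
        ∑ j ∈ Finset.range (i + 1), (-1 : ℤ) ^ i [ZMOD d] := by
      refine Int.ModEq.sum fun j hj => ?_
      rw [Finset.mem_range] at hj
      have h7 : (-1 : ℤ) ^ i = (-1) ^ j * (-1) ^ (i + 1 - 1 - j) := by
        rw [← pow_add]
        congr 1
        omega
      rw [h7]
      exact (hqd.pow j).mul_right _
    rw [Finset.sum_const, Finset.card_range, nsmul_eq_mul] at h6
    refine (Int.ModEq.dvd_iff h6).2 ?_
    exact Dvd.dvd.mul_right (by exact_mod_cast hd2) _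
  exact_mod_cast h5

theorem ph_dvd {q i d : ℕ} (hq : 1 ≤ q) (h1 : d ∣ q + 1) : d ∣ ph q i := by
  obtain ⟨S, hS, -⟩ := ph_geom hq i
  rw [hS]
  exact h1.mul_right S

theorem ph_pos {q i : ℕ} (hq : 2 ≤ q) : 0 < ph q i := by
  unfold ph
  split_ifs
  · omega
  · have : q ^ 1 ≤ q ^ (i + 1) := Nat.pow_le_pow_right (by omega) (by omega)
    rw [pow_one] at this
    omega

theorem ph_succ {q r i : ℕ} (hq : 1 ≤ q) (h1 : r ∣ ph q i) (h2 : r ∣ ph q (i + 1)) : r ∣ q + 1 := by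
  have e1 : (r : ℤ) ∣ (ph q i : ℤ) := by exact_mod_cast h1
  have e2 : (r : ℤ) ∣ (ph q (i + 1) : ℤ) := by exact_mod_cast h2
  rw [ph_cast hq] at e1 e2
  have e3 : (r : ℤ) ∣ (-1) ^ (i + 1) * ((q : ℤ) ^ (i + 1 + 1) - (-1) ^ (i + 1 + 1) -
      q * ((q : ℤ) ^ (i + 1) - (-1) ^ (i + 1))) := (e2.sub (e1.mul_left _)).mul_left _
  have e4 : (-1 : ℤ) ^ (i + 1) * ((q : ℤ) ^ (i + 1 + 1) - (-1) ^ (i + 1 + 1) -
      q * ((q : ℤ) ^ (i + 1) - (-1) ^ (i + 1))) = (q : ℤ) + 1 := by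
    have e5 : (-1 : ℤ) ^ (i + 1) * (-1) ^ (i + 1) = 1 := by
      rw [← mul_pow]
      norm_num
    linear_combination ((q : ℤ) + 1) * e5
  rw [e4] at e3
  exact_mod_cast e3

/-- **`PSU n F q`, `n ≥ 3`** -/
theorem psu_row {F : Type*} [Field F] [Fintype F] {q : ℕ} (hF : Fintype.card F = q ^ 2) {n k : ℕ} (hn : 3 ≤ n)
    (h32 : ¬ (n = 3 ∧ q = 2)) (h : IsoN (PSU n F q) k) :
    (k * Nat.gcd n (q + 1) * (q + 1) = ph q (n - 1) ∧
      ∃ x : PSU n F q, orderOf x * Nat.gcd n (q + 1) = ph q (n - 2)) ∨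
    (4 ≤ n ∧ q + 1 ∣ n ∧ k * (q + 1) = ph q (n - 2) ∧ ∃ x : PSU n F q, orderOf x * (q + 1) ^ 2 = ph q (n - 1)) ∨
    (n = 4 ∧ q = 3 ∧ k = 35) ∨ (n = 6 ∧ q = 2 ∧ k = 77) := by
  have hq : 2 ≤ q := LieClassical.HermBasic.two_le hF
  have hfin : Finite (PSU n F q) := inferInstance
  have hk31 := h.big
  set g := Nat.gcd n (q + 1) with hg
  have hgq : g ∣ q + 1 := Nat.gcd_dvd_right _ _
  have hg0 : 0 < g := Nat.gcd_pos_of_pos_right _ (by omega)
  have c0 : ∀ r : ℕ, r.Prime → r ∣ k → ¬ r ∣ q := fun r hr hrk hd =>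
    h.not_adj hrk (adj_two_of_char hF hn hr (h.ne_two hrk) hd)
  have c2 : ∀ r i : ℕ, r.Prime → r ∣ k → 4 ≤ n → i < n - 2 → ¬ r ∣ ph q i := fun r i hr hrk hn4 hi hd =>
    h.not_adj hrk (adj_two_of_lt hF hn4 hr (h.ne_two hrk) hi hd)
  have hnear : ∀ r : ℕ, r.Prime → r ∣ k → Far2 n q r ∨ (4 ≤ n ∧ Far1 n q r ∧ (q + 1) ∣ n) := by
    intro r hr hrk
    rcases near_or hF hn h32 hr (h.ne_two hrk) (h.prime_dvd_card hrk) with h1 | h1
    · exact absurd h1 (h.not_near hrk)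
    · exact h1
  have c1 : ∀ r : ℕ, r.Prime → r ∣ k → ¬ r ∣ q + 1 := by
    intro r hr hrk
    rcases hnear r hr hrk with h1 | ⟨-, h1, -⟩
    · exact h1.2
    · exact h1.2
  have hgk : Nat.Coprime k g := Nat.coprime_of_dvd fun r hr hrk hrg => c1 r hr hrk (hrg.trans hgq)
  have hq1k : Nat.Coprime k (q + 1) := Nat.coprime_of_dvd fun r hr hrk hrg => c1 r hr hrk hrg
  have hred : k ∣ ph q (n - 2) * ph q (n - 1) := by
    have h1 : k ∣ Nat.card (SU n F q) := h.dvd_card.trans (Subgroup.card_quotient_dvd_card _)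
    rw [card_SU hF (by omega)] at h1
    have h2 := dvd_of_primes h1 fun r hr hrk hd => c0 r hr hrk (hr.dvd_of_dvd_pow hd)
    obtain ⟨t, rfl⟩ : ∃ t, n = t + 3 := ⟨n - 3, by omega⟩
    have e : t + 3 - 1 = t + 1 + 1 := by omega
    rw [e, Finset.prod_range_succ, Finset.prod_range_succ, mul_assoc] at h2
    have e2 : t + 3 - 2 = t + 1 := by omega
    rw [e, e2]
    refine dvd_of_primes h2 fun r hr hrk => not_dvd_prod (fun i hi => ?_) hr
    rw [Finset.mem_range] at hi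
    exact c2 r (i + 1) hr hrk (by omega) (by omega)
  by_cases h43 : n = 4 ∧ q = 3
  · right; right; left
    obtain ⟨rfl, rfl⟩ := h43
    refine ⟨rfl, rfl, ?_⟩
    have h1 : k ∣ (3 ^ 3 + 1) * (3 ^ 4 - 1) := by
      have h2 := hred
      unfold ph at h2
      exact h2
    norm_num at h1
    have h2 : k ∣ 2 ^ 6 * 35 := by norm_num; exact h1
    have h3 : k ∣ 35 := dvd_of_primes h2 fun r hr hrk hd =>
      h.ne_two hrk ((Nat.prime_dvd_prime_iff_eq hr Nat.prime_two).1 (hr.dvd_of_dvd_pow hd))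
    have h4 := Nat.le_of_dvd (by norm_num) h3
    interval_cases k <;> first | rfl | omega
  by_cases h62 : n = 6 ∧ q = 2
  · right; right; right
    obtain ⟨rfl, rfl⟩ := h62
    refine ⟨rfl, rfl, ?_⟩
    have h1 : k ∣ (2 ^ 5 + 1) * (2 ^ 6 - 1) := by
      have h2 := hred
      unfold ph at h2
      exact h2
    norm_num at h1
    have h2 : k ∣ 3 ^ 3 * 77 := by norm_num; exact h1
    have h3 : k ∣ 77 := dvd_of_primes h2 fun r hr hrk hd =>
      h.ne_three hrk ((Nat.prime_dvd_prime_iff_eq hr Nat.prime_three).1 (hr.dvd_of_dvd_pow hd))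
    have h4 := Nat.le_of_dvd (by norm_num) h3
    interval_cases k <;> first | rfl | omega
  -- the general case
  have hn2 : n - 2 + 1 = n - 1 := by omega
  by_cases htop : ∃ b : ℕ, b.Prime ∧ b ∣ k ∧ Far2 n q b
  · left
    obtain ⟨b, hb, hbk, hbF⟩ := htop
    have hall : ∀ r : ℕ, r.Prime → r ∣ k → ¬ r ∣ ph q (n - 2) := by
      intro r hr hrk hd
      rcases hnear r hr hrk with h1 | ⟨hn4, h1, hqn⟩
      · exact h1.2 (ph_succ (by omega) hd (by rw [hn2]; exact h1.1))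
      · rcases mixed hF hn4 hr hb (h.ne_two hrk) (h.ne_two hbk) hqn h1 hbF with h2 | h2 | h2 | h2
        · exact h.not_near hrk h2
        · exact h.not_near hbk h2
        · exact h43 h2
        · exact h62 h2
    have hk1 : k ∣ ph q (n - 1) := dvd_of_primes hred hall
    obtain ⟨S, hS, hSd⟩ := ph_geom (q := q) (by omega) (n - 1)
    have hgS : g ∣ S := hSd g hgq (by
      rw [Nat.sub_add_cancel (by omega)]
      exact Nat.gcd_dvd_left _ _)
    have hkS : k ∣ S := hq1k.dvd_of_dvd_mul_left (by rwa [← hS])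
    obtain ⟨x, hx⟩ := exists_topU hF hn
    rw [← hg, hS, mul_comm (q + 1) S] at hx
    have hx1 : S ∣ orderOf x * g := Nat.dvd_of_mul_dvd_mul_right (by omega) hx
    have hxk : orderOf x ∣ k := by
      refine h.iso x b hb hbk ?_
      have h2 : b ∣ orderOf x * g := (hbk.trans hkS).trans hx1
      rcases (Nat.Prime.dvd_mul hb).1 h2 with h3 | h3
      · exact h3
      · exact absurd (h3.trans hgq) (c1 b hb hbk)
    have hkx : k ∣ orderOf x := hgk.dvd_of_dvd_mul_right (hkS.trans hx1)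
    have hxe : orderOf x = k := Nat.dvd_antisymm hxk hkx
    rw [hxe] at hx1
    have hkgS : k * g ∣ S := hgk.mul_dvd_of_dvd_of_dvd hkS hgS
    have hSe : S = k * g := Nat.dvd_antisymm hx1 hkgS
    refine ⟨by rw [hS, hSe]; ring, ?_⟩
    obtain ⟨y, hy⟩ := exists_subU hF hn
    obtain ⟨M, hM⟩ : g ∣ ph q (n - 2) := ph_dvd (by omega) hgq
    rw [← hg, hM, mul_comm g M] at hy
    obtain ⟨z, hz⟩ := exists_order ⟨y, Nat.dvd_of_mul_dvd_mul_right hg0 hy⟩
    exact ⟨z, by rw [hz, hM, mul_comm]⟩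
  · right; left
    push Not at htop
    have hall : ∀ r : ℕ, r.Prime → r ∣ k → 4 ≤ n ∧ Far1 n q r ∧ (q + 1) ∣ n := fun r hr hrk =>
      (hnear r hr hrk).resolve_left (htop r hr hrk)
    obtain ⟨b, hb, hbk⟩ := h.exists_prime
    obtain ⟨hn4, -, hqn⟩ := hall b hb hbk
    have hk1 : k ∣ ph q (n - 2) := by
      rw [mul_comm] at hred
      refine dvd_of_primes hred fun r hr hrk hd => ?_
      have h1 := (hall r hr hrk).2.1
      exact h1.2 (ph_succ (by omega) h1.1 (by rw [hn2]; exact hd))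
    have h5 : g = q + 1 := Nat.gcd_eq_right hqn
    obtain ⟨S, hS, -⟩ := ph_geom (q := q) (by omega) (n - 2)
    have hkS : k ∣ S := hq1k.dvd_of_dvd_mul_left (by rwa [← hS])
    obtain ⟨y, hy⟩ := exists_subU hF hn
    rw [← hg, h5, hS, mul_comm (q + 1) S] at hy
    have hy1 : S ∣ orderOf y := Nat.dvd_of_mul_dvd_mul_right (by omega) hy
    have hyk : orderOf y ∣ k := h.iso y b hb hbk ((hbk.trans hkS).trans hy1)
    have h7 : k = S := Nat.dvd_antisymm hkS (hy1.trans hyk)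
    refine ⟨hn4, hqn, by rw [h7, hS, mul_comm], ?_⟩
    obtain ⟨S', hS', hSd'⟩ := ph_geom (q := q) (by omega) (n - 1)
    have h8 : (q + 1) ^ 2 ∣ ph q (n - 1) := by
      rw [hS', pow_two]
      exact Nat.mul_dvd_mul_left _ (hSd' _ dvd_rfl (by rw [Nat.sub_add_cancel (by omega)]; exact hqn))
    obtain ⟨x, hx⟩ := exists_topU hF hn
    rw [← hg, h5] at hx
    obtain ⟨M, hM⟩ := h8
    rw [hM, mul_assoc, ← pow_two, mul_comm] at hx
    obtain ⟨z, hz⟩ := exists_order ⟨x, Nat.dvd_of_mul_dvd_mul_right (pow_pos (by omega) 2) hx⟩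
    exact ⟨z, by rw [hz, hM, mul_comm]⟩

end Cfsg.Agent.H360.Iso
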