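import Cfsg.Agent.H360.Iso.Basic
import Cfsg.Agent.H948.UMain

/-!
# Elements of the maximal tori of `PSU n F q` (helper360)

* `exists_topU`: an element `x` with `q ^ n - (-1) ^ n ∣ orderOf x * gcd(n, q+1) * (q + 1)`;
* `exists_subU`: an element `x` with `q ^ (n-1) - (-1) ^ (n-1) ∣ orderOf x * gcd(n, q+1)`;
* `exists_blockU`: an element of order `q ^ k - (-1) ^ k`, `k + 2 ≤ n`.
-/

set_option autoImplicit false
set_option linter.unusedSectionVars false

namespace Cfsg.Agent.H360.Iso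

open Cfsg Cfsg.Agent.LieClassical Cfsg.Agent.LieClassical.HermBasic Cfsg.Agent.H948.UBase Cfsg.Agent.H948.UProd
  Cfsg.Agent.H948.UTorus Cfsg.Agent.H948.UMain
open Cfsg.Agent.ClassicalGeometry.PSUAutBasic (pr pr_eq_one_iff exists_scalar_of_mem_center mem_center_of_act)

variable {F : Type*} [Field F] [Fintype F] {q : ℕ} {hF : Fintype.card F = q ^ 2}

section

variable {V : Type*} [AddCommGroup V] [Module F V]

/-- the element of `PSU` given by an isometry of determinant one -/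
theorem exists_of_iso [FiniteDimensional F V] {n : ℕ} {B : V →ₛₗ[cj hF] V →ₗ[F] F} (hB : IsHerm hF B)
    (hn : Module.finrank F V = n) (hn3 : 3 ≤ n) {T : Module.End F V} (hT : Iso B T) (hd : LinearMap.det T = 1) :
    ∃ x : PSU n F q, ∀ k : ℕ, x ^ k = 1 ↔ IsScal (T ^ k) := by
  obtain ⟨e, he⟩ := exists_coord hB hn
  refine ⟨pr n F q (suHom e he ⟨T, hT, hd⟩), fun k => ?_⟩
  rw [← map_pow, ← map_pow, pr_suHom_eq_one_iff hn3]
  rfl

theorem pow_gcd_eq_one_of_scal [FiniteDimensional F V] {n : ℕ} {B : V →ₛₗ[cj hF] V →ₗ[F] F} (hB : IsHerm hF B)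
    (hn : Module.finrank F V = n) (hn3 : 3 ≤ n) {T : Module.End F V} (hT : Iso B T) (hd : LinearMap.det T = 1) {o : ℕ}
    (hs : IsScal (T ^ o)) : T ^ (o * Nat.gcd n (q + 1)) = 1 := by
  obtain ⟨c, hc⟩ := hs
  have h0 : 0 < Module.finrank F V := by omega
  have := Module.finrank_pos_iff.1 h0
  obtain ⟨x₀, hx₀⟩ := exists_ne (0 : V)
  have h1 := norm_of_scal hB (hT.pow o) hc hx₀
  have h2 : T ^ o = c • (1 : Module.End F V) := LinearMap.ext fun x => by
    rw [hc, LinearMap.smul_apply, Module.End.one_apply]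
  have h3 : c ^ n = 1 := by
    have h4 := congrArg LinearMap.det h2
    rw [map_pow, hd, one_pow, LinearMap.det_smul, map_one, mul_one, hn] at h4
    exact h4.symm
  have h5 : c ^ Nat.gcd n (q + 1) = 1 := pow_gcd_eq_one.2 ⟨h3, h1⟩
  rw [pow_mul, h2, smul_pow, one_pow, h5, one_smul]

end

theorem exists_gen {m : ℕ} (t : Tor hF m) : ∃ z : t.C, orderOf z = ph q (m - 1) := by
  obtain ⟨z, hz⟩ := IsCyclic.exists_ofOrder_eq_natCard (α := t.C)
  exact ⟨z, by rw [hz, t.card]⟩

theorem exists_topU (hF : Fintype.card F = q ^ 2) {n : ℕ} (hn : 3 ≤ n) :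
    ∃ x : PSU n F q, ph q (n - 1) ∣ orderOf x * Nat.gcd n (q + 1) * (q + 1) := by
  obtain ⟨t⟩ := exists_tor hF (m := n) (by omega)
  obtain ⟨z, hz⟩ := exists_gen t
  have hT : Iso t.B (t.ρ z ^ (q + 1)) := (t.iso z).pow _
  have hd : LinearMap.det (t.ρ z ^ (q + 1)) = 1 := by
    rw [map_pow]
    exact det_norm t.herm (t.iso z)
  obtain ⟨x, hx⟩ := exists_of_iso t.herm t.dim hn hT hd
  refine ⟨x, ?_⟩
  have h1 := pow_gcd_eq_one_of_scal t.herm t.dim hn hT hd ((hx _).1 (pow_orderOf_eq_one x))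
  rw [← hz]
  apply orderOf_dvd_of_pow_eq_one
  apply t.inj
  rw [map_pow, map_one, mul_comm, pow_mul, h1]

theorem exists_subU (hF : Fintype.card F = q ^ 2) {n : ℕ} (hn : 3 ≤ n) :
    ∃ x : PSU n F q, ph q (n - 2) ∣ orderOf x * Nat.gcd n (q + 1) := by
  obtain ⟨m, rfl⟩ : ∃ m, n = m + 1 := ⟨n - 1, by omega⟩
  obtain ⟨t⟩ := exists_tor hF (m := m) (by omega)
  obtain ⟨z, hz⟩ := exists_gen t
  obtain ⟨x, hx⟩ := exists_of_iso (isHerm_prod t.herm isHerm_one) (finrank_ext t) hn (iso_ext t z) (det_ext t z)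
  refine ⟨x, ?_⟩
  have h1 := pow_gcd_eq_one_of_scal (isHerm_prod t.herm isHerm_one) (finrank_ext t) hn (iso_ext t z) (det_ext t z)
    ((hx _).1 (pow_orderOf_eq_one x))
  have e : m + 1 - 2 = m - 1 := by omega
  rw [e, ← hz]
  apply orderOf_dvd_of_pow_eq_one
  apply t.inj
  rw [map_one]
  rw [ext_pow] at h1
  refine LinearMap.ext fun v => ?_
  exact congrArg Prod.fst (LinearMap.congr_fun h1 (v, 0))

theorem exists_blockU (hF : Fintype.card F = q ^ 2) {n k : ℕ} (hk : 1 ≤ k) (hkn : k + 2 ≤ n) :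
    ∃ x : PSU n F q, orderOf x = ph q (k - 1) := by
  obtain ⟨t⟩ := exists_tor hF (m := k) (by omega)
  obtain ⟨z, hz⟩ := exists_gen t
  obtain ⟨C, hC⟩ := exists_space hF (n - k - 1)
  have hdim : Module.finrank F ((t.V × F) × (Fin (n - k - 1) → F)) = n := by
    rw [Module.finrank_prod, finrank_ext t, Module.finrank_fintype_fun_eq_card, Fintype.card_fin]
    omega
  have hT : Iso (prodForm (prodForm t.B (oneForm hF)) C)
      ((ext t z).prodMap (1 : Module.End F (Fin (n - k - 1) → F))) := iso_prod (iso_ext t z) Iso.one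
  have hd : LinearMap.det ((ext t z).prodMap (1 : Module.End F (Fin (n - k - 1) → F))) = 1 := by
    rw [det_prod, det_ext, map_one, one_mul]
  obtain ⟨x, hx⟩ := exists_of_iso (isHerm_prod (isHerm_prod t.herm isHerm_one) hC) hdim (by omega) hT hd
  refine ⟨x, ?_⟩
  rw [← hz]
  refine orderOf_eq_orderOf_iff.2 fun j => ?_
  rw [hx, prodMap_pow, one_pow, ext_pow]
  constructor
  · intro h
    have h0 : 0 < n - k - 1 := by omega
    have h2 := IsScal.eq_one h (x := ((0 : t.V × F), fun _ => (1 : F))) (by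
      intro h3
      have h4 := congrFun (congrArg Prod.snd h3) ⟨0, h0⟩
      exact one_ne_zero h4) (by
      simp only [LinearMap.prodMap_apply, map_zero, Module.End.one_apply])
    apply t.inj
    rw [map_one]
    refine LinearMap.ext fun v => ?_
    exact congrArg (fun w => w.1.1) (LinearMap.congr_fun h2 ((v, 0), 0))
  · intro h
    rw [h, ext_one]
    refine ⟨1, fun x => ?_⟩
    simp

end Cfsg.Agent.H360.Iso
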