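import Cfsg.Agent.H360.Iso.UCtx
import Cfsg.Agent.H360.Iso.TwF4
import Cfsg.Agent.H437.Iso.Untw
import Cfsg.Agent.H437.Iso.TwD4

/-!
# Elimination in the window: `G₂`, `F₄`, `³D₄`, `²F₄` (helper360)
-/

set_option autoImplicit false

namespace Cfsg.Agent.H360.Iso

open Cfsg Cfsg.Agent.H437.Iso Cfsg.Agent.H372.U3

section

variable {T : Type*} [Group T] {n : ℕ}

/-- `n = u⁴ - u² + 1` and the order `(u³ - 1)(u + 1)` -/
theorem Win.not_twelve (h : Win T n) {u : ℕ} (hu : 2 ≤ u) (hn : n = u ^ 4 - u ^ 2 + 1)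
    (hE : ∃ x : T, orderOf x = (u ^ 3 - 1) * (u + 1)) : False := by
  have h1 : u ^ 2 ≤ u ^ 4 := Nat.pow_le_pow_right (by omega) (by norm_num)
  have h2 : 1 ≤ u ^ 3 := Nat.one_le_pow _ _ (by omega)
  have hn' : (n : ℤ) = (u : ℤ) ^ 4 - (u : ℤ) ^ 2 + 1 := by
    rw [hn]
    push_cast [h1]
    ring
  obtain ⟨U, hU⟩ : ∃ U : ℤ, U = (u : ℤ) := ⟨_, rfl⟩
  have hU2 : 2 ≤ U := by omega
  rw [← hU] at hn'
  have hU3 : 4 * U ≤ U ^ 3 := by nlinarith
  refine h.above (m := (u ^ 3 - 1) * (u + 1)) (c := 1) (A := U ^ 3 + U ^ 2 - U - 2) hE (by norm_num) (by nlinarith)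
    ?_ ?_
  · rw [hn', Nat.cast_mul, Nat.cast_sub h2]
    push_cast
    rw [← hU]
    ring
  · rw [hn', one_pow, mul_one]
    have h3 : 2 * U ^ 2 ≤ U ^ 3 + U ^ 2 - U - 2 := by nlinarith
    have h4 : (2 * U ^ 2) ^ 2 ≤ (U ^ 3 + U ^ 2 - U - 2) ^ 2 := pow_le_pow_left₀ (by positivity) h3 2
    nlinarith

theorem Win.not_isoChevG2 (h : Win T n) : ¬ Lie.IsoChevG2 T := by
  rintro ⟨F, _, _, -, ⟨e⟩⟩
  have h' := h.congr e
  have hb := h.big
  have hu : 2 ≤ Nat.card F := Finite.one_lt_card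
  have h6 := g2_order6 (F := F)
  have h3 := g2_order3 (F := F)
  rcases g2_row h'.iso with h1 | h1
  · set u := Nat.card F with hud
    have hu6 : 6 ≤ u := by
      by_contra hcon
      have : u = 2 ∨ u = 3 ∨ u = 4 ∨ u = 5 := by omega
      rcases this with h2 | h2 | h2 | h2 <;> rw [h2] at h1 <;> norm_num at h1 <;> omega
    have h4 : u ≤ u ^ 2 := Nat.le_self_pow (by norm_num) u
    have e1 : ((u ^ 2 - u + 1 : ℕ) : ℤ) = (u : ℤ) ^ 2 - u + 1 := by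
      push_cast [h4]
      ring
    have e2 : (n : ℤ) = (u : ℤ) ^ 2 + u + 1 := by rw [h1]; push_cast; ring
    have hU6 : (6 : ℤ) ≤ (u : ℤ) := by exact_mod_cast hu6
    refine h'.below (m := u ^ 2 - u + 1) (c := 1) (A := (u : ℤ) ^ 2 - 3 * u + 1) h6 (by norm_num) (by nlinarith) ?_ ?_ ?_
    · rw [e1, e2]; ring
    · rw [e1, e2]; nlinarith
    · rw [e2, one_pow, mul_one]
      have h5 : 3 * (u : ℤ) + 1 ≤ (u : ℤ) ^ 2 - 3 * u + 1 := by nlinarith
      have h7 : (3 * (u : ℤ) + 1) ^ 2 ≤ ((u : ℤ) ^ 2 - 3 * u + 1) ^ 2 := pow_le_pow_left₀ (by positivity) h5 2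
      nlinarith
  · refine h'.not_odd h3 ?_ ?_
    · obtain ⟨j, hj⟩ := Nat.even_mul_succ_self (Nat.card F)
      exact ⟨j, by
        have : Nat.card F ^ 2 + Nat.card F = Nat.card F * (Nat.card F + 1) := by ring
        omega⟩
    · rw [h1]
      have h4 : Nat.card F ≤ Nat.card F ^ 2 := Nat.le_self_pow (by norm_num) _
      omega

theorem Win.not_isoF4 (h : Win T n) : ¬ Lie.IsoF4 T := by
  rintro ⟨F, _, _, ⟨e⟩⟩
  have h' := h.congr e
  have hu : 2 ≤ Nat.card F := Finite.one_lt_card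
  rcases f4_row h'.iso with h1 | ⟨he, h1⟩
  · exact h'.not_twelve hu h1 f4_orderA
  · refine h'.not_odd (f4_orderA (F := F)) ?_ ?_
    · refine Odd.mul ?_ he.add_one
      exact Nat.Even.sub_odd (Nat.one_le_pow _ _ (by omega)) (he.pow_of_ne_zero (by norm_num)) odd_one
    · rw [h1]
      obtain ⟨v, hv⟩ : ∃ v, Nat.card F = v + 2 := ⟨Nat.card F - 2, by omega⟩
      rw [hv]
      have e1 : (v + 2) ^ 3 - 1 = v ^ 3 + 6 * v ^ 2 + 12 * v + 7 := by
        have : (v + 2) ^ 3 = v ^ 3 + 6 * v ^ 2 + 12 * v + 7 + 1 := by ring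
        omega
      rw [e1]
      nlinarith [sq_nonneg (v ^ 2)]

theorem Win.not_iso3D4 (h : Win T n) : ¬ Lie.Iso3D4 T := by
  rintro ⟨K, _, _, q, hq, hK, ⟨e⟩⟩
  have h' := h.congr e
  exact h'.not_twelve hq.two_le (d4_row hq hK h'.iso) (d4_orderA hq hK)

theorem pow_two_dvd {N k : ℕ} (h : 2 ^ N ∣ k * (k + 1)) : 2 ^ N ∣ k ∨ 2 ^ N ∣ k + 1 := by
  by_cases h2 : 2 ∣ k
  · left
    have h3 : ¬ 2 ∣ k + 1 := by omega
    exact (Nat.Coprime.pow_left N ((Nat.prime_two.coprime_iff_not_dvd).2 h3)).dvd_of_dvd_mul_right h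
  · right
    exact (Nat.Coprime.pow_left N ((Nat.prime_two.coprime_iff_not_dvd).2 h2)).dvd_of_dvd_mul_left h

/-- **`²F₄(q)`** -/
theorem UCtx.not_iso2F4 {p q : ℕ} (h : UCtx T p q) : ¬ Lie.Iso2F4 T := by
  rintro ⟨K, _, _, m, hm, hK, ⟨e⟩⟩
  have h' := h.win.congr e
  obtain ⟨b, hb⟩ : ∃ b, b = 2 ^ m := ⟨_, rfl⟩
  have hb2 : 2 ≤ b := by
    rw [hb]
    calc 2 = 2 ^ 1 := by norm_num
      _ ≤ 2 ^ m := Nat.pow_le_pow_right (by norm_num) hm
  have hB2 : (2 : ℤ) ≤ (b : ℤ) := by exact_mod_cast hb2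
  rcases f4t_row hK hm hb h'.iso with h1 | h1 | h1
  · have hE := f4t_B hK hb
    have hbb : 1 ≤ 2 * b ^ 2 := by nlinarith
    have e1 : (((2 * b ^ 2 - 1) * (2 * b ^ 2 + 2 * b + 1) : ℕ) : ℤ) =
        (2 * (b : ℤ) ^ 2 - 1) * (2 * (b : ℤ) ^ 2 + 2 * b + 1) := by
      rw [Nat.cast_mul, Nat.cast_sub hbb]
      push_cast
      ring
    have e2 : (nn q : ℤ) = 4 * (b : ℤ) ^ 4 + 4 * (b : ℤ) ^ 3 + 2 * (b : ℤ) ^ 2 + 2 * b + 1 := by
      rw [h1]; push_cast; ring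
    have hB3 : 4 * (b : ℤ) ≤ (b : ℤ) ^ 3 := by nlinarith
    have hB4 : 4 * (b : ℤ) ^ 2 ≤ (b : ℤ) ^ 4 := by nlinarith
    have hB5 : 2 * (b : ℤ) ^ 3 ≤ (b : ℤ) ^ 4 := by nlinarith [pow_pos (by linarith : (0:ℤ) < b) 3]
    refine h'.below (m := (2 * b ^ 2 - 1) * (2 * b ^ 2 + 2 * b + 1)) (c := 1)
      (A := 4 * (b : ℤ) ^ 4 + 4 * (b : ℤ) ^ 3 - 2 * (b : ℤ) ^ 2 - 6 * b - 3) hE (by norm_num) (by nlinarith) ?_ ?_ ?_
    · rw [e1, e2]; ring
    · rw [e1, e2]; nlinarith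
    · rw [e2, one_pow, mul_one]
      have h5 : 4 * (b : ℤ) ^ 4 ≤ 4 * (b : ℤ) ^ 4 + 4 * (b : ℤ) ^ 3 - 2 * (b : ℤ) ^ 2 - 6 * b - 3 := by nlinarith
      have h7 := pow_le_pow_left₀ (by positivity) h5 2
      nlinarith [pow_pos (by linarith : (0:ℤ) < b) 4]
  · refine h'.not_odd (f4t_plus hK hb) ⟨2 * b ^ 4 + 2 * b ^ 3 + b ^ 2 + b, by ring⟩ ?_
    nlinarith [pow_pos (by linarith : (0:ℤ) < b) 3]
  · -- `n = t₊ t₋`
    have h5 := h.h5
    obtain ⟨t, ht, e1, -⟩ := sq_eq (show 1 ≤ q by omega)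
    have hd := dd_mul_nn (show 1 ≤ q by omega)
    obtain ⟨X, hX⟩ : ∃ X, X = 4 * b ^ 4 := ⟨_, rfl⟩
    have hX64 : 64 ≤ X := by
      rw [hX]
      have : 2 ^ 4 ≤ b ^ 4 := Nat.pow_le_pow_left hb2 4
      omega
    have hn : nn q + X = X ^ 2 + 1 := by
      have h7 : 16 * b ^ 8 = X ^ 2 := by rw [hX]; ring
      rw [h1, h7, ← hX]
      have : X ≤ X ^ 2 := Nat.le_self_pow (by norm_num) X
      omega
    obtain ⟨f, hf, hqf⟩ := h.hq
    have hqo : Odd q := by rw [hqf]; exact (h.hp.odd_of_ne_two h.hp2).pow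
    have hXe : Even X := ⟨2 * b ^ 4, by rw [hX]; ring⟩
    rw [e1] at hd
    rcases dd_cases q with ⟨h2, -⟩ | ⟨h2, h3⟩
    · rw [h2, one_mul] at hd
      have h6 : (t + 1) * t = X * (X - 1) := by
        obtain ⟨Y, hY⟩ : ∃ Y, X = Y + 1 := ⟨X - 1, by omega⟩
        rw [hY] at hn ⊢
        rw [Nat.add_sub_cancel]
        nlinarith
      have h7 : t + 1 = X := by
        obtain ⟨Y, hY⟩ : ∃ Y, X = Y + 1 := ⟨X - 1, by omega⟩
        rw [hY, Nat.add_sub_cancel] at h6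
        rw [hY]
        rcases Nat.lt_trichotomy t Y with h8 | h8 | h8
        · nlinarith
        · omega
        · nlinarith
      rw [ht, h7] at hqo
      exact (Nat.not_even_iff_odd.2 hqo) hXe
    · rw [h2] at hd
      -- `q = 3 j + 2`, `t = 3 j + 1`, `2 q - 1 = 3 (2 j + 1)`
      obtain ⟨j, hj⟩ : ∃ j, t = 3 * j + 1 := by
        obtain ⟨i, hi⟩ := h3
        exact ⟨i - 1, by omega⟩
      rw [hj] at hd
      have h6 : 3 * (j * (j + 1)) = X * (X - 1) := by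
        obtain ⟨Y, hY⟩ : ∃ Y, X = Y + 1 := ⟨X - 1, by omega⟩
        rw [hY] at hn ⊢
        rw [Nat.add_sub_cancel]
        nlinarith
      have hX2 : X = 2 ^ (4 * m + 2) := by
        rw [hX, hb, ← pow_mul, pow_add]
        ring
      have h7 : 2 ^ (4 * m + 2) ∣ j * (j + 1) := by
        have h8 : 2 ^ (4 * m + 2) ∣ 3 * (j * (j + 1)) := by
          rw [h6, ← hX2]
          exact dvd_mul_right _ _
        exact (Nat.Coprime.pow_left _ (by norm_num)).dvd_of_dvd_mul_left h8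
      have h9 : X ≤ j + 1 := by
        rw [hX2]
        have hj0 : 0 < j := by
          rcases Nat.eq_zero_or_pos j with h0 | h0
          · exfalso
            rw [h0] at h6
            obtain ⟨Y, hY⟩ : ∃ Y, X = Y + 1 := ⟨X - 1, by omega⟩
            rw [hY, Nat.add_sub_cancel] at h6
            nlinarith
          · exact h0
        rcases pow_two_dvd h7 with h10 | h10
        · exact (Nat.le_of_dvd hj0 h10).trans (Nat.le_succ _)
        · exact Nat.le_of_dvd (by omega) h10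
      have h11 : X * (X - 1) ≤ j * (j + 1) := by
        calc X * (X - 1) = (X - 1) * X := mul_comm _ _
          _ ≤ j * (j + 1) := Nat.mul_le_mul (by omega) h9
      have h12 : 0 < X * (X - 1) := Nat.mul_pos (by omega) (by omega)
      omega

end

end Cfsg.Agent.H360.Iso
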