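import Cfsg.Agent.H360.Iso.UCtx
import Cfsg.Agent.H603.SporElim

/-!
# No sporadic group has the isolated number of `PSU_3(q)` (helper360)
-/

set_option autoImplicit false

namespace Cfsg.Agent.H360.Iso

open Cfsg Cfsg.Agent.H372.U3

/-- integer square root with fuel -/
def srt : ℕ → ℕ → ℕ → ℕ
  | 0, _, r => r
  | k + 1, t, r => bif Nat.ble ((r + 2 ^ k) * (r + 2 ^ k)) t then srt k t (r + 2 ^ k) else srt k t r

/-- the values of `q` -/
def Qs : List ℕ := [1, 2, 3, 4, 5, 6, 7, 8, 10, 11, 12, 17, 19, 23, 26, 27, 30, 31, 37, 38, 50, 68, 80, 88, 101, 122,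
  164, 166, 179, 192, 212, 316, 381, 566, 677, 901, 1370, 1713, 2383, 2630, 3447, 25364]

/-- the test: `t` is not a square, or `t = (2 q - 1)²` with `q` in the list -/
def chk (t : ℕ) : Bool :=
  (fun r => (Nat.blt (r * r) t && Nat.blt t ((r + 1) * (r + 1))) ||
    (Nat.beq (r * r) t && Qs.any fun q => Nat.beq (r + 1) (2 * q))) (srt 30 t 0)

theorem chk_spec {t q : ℕ} (h : chk t = true) (hq : 1 ≤ q) (ht : (2 * q - 1) * (2 * q - 1) = t) : q ∈ Qs := by
  unfold chk at h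
  simp only [Bool.or_eq_true, Bool.and_eq_true, Nat.blt_eq, List.any_eq_true, Nat.beq_eq_true_eq] at h
  generalize hr : srt 30 t 0 = r at h
  rcases h with ⟨h1, h2⟩ | ⟨h0, q', hq', h1⟩
  · exfalso
    have h3 : r < 2 * q - 1 := by
      by_contra hcon
      have : (2 * q - 1) * (2 * q - 1) ≤ r * r := Nat.mul_le_mul (by omega) (by omega)
      omega
    have h4 : (r + 1) * (r + 1) ≤ (2 * q - 1) * (2 * q - 1) := Nat.mul_le_mul (by omega) (by omega)
    omega
  · have h0' := Nat.eq_of_beq_eq_true h0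
    have h1' := Nat.eq_of_beq_eq_true h1
    rw [← ht] at h0'
    have h2 : r = 2 * q - 1 := Nat.mul_self_inj.1 h0'
    have : q' = q := by omega
    rw [← this]
    exact hq'

/-- all divisors of `7⁶ 13³ 19 31 37 43 67` -/
def allD (f : ℕ → Bool) : Bool :=
  [1, 7, 49, 343, 2401, 16807, 117649].all fun a => [1, 13, 169, 2197].all fun b => [1, 19].all fun c =>
    [1, 31].all fun d => [1, 37].all fun e => [1, 43].all fun g => [1, 67].all fun k => f (a * b * c * d * e * g * k)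

theorem allD_spec {f : ℕ → Bool} (h : allD f = true) {D : ℕ} (hD : D ∣ 7 ^ 6 * 13 ^ 3 * 19 * 31 * 37 * 43 * 67) :
    f D = true := by
  obtain ⟨D6, x7, h6, h7, e7⟩ := (Nat.dvd_mul).1 hD
  obtain ⟨D5, x6, h5, h6', e6⟩ := (Nat.dvd_mul).1 h6
  obtain ⟨D4, x5, h4, h5', e5⟩ := (Nat.dvd_mul).1 h5
  obtain ⟨D3, x4, h3, h4', e4⟩ := (Nat.dvd_mul).1 h4
  obtain ⟨D2, x3, h2, h3', e3⟩ := (Nat.dvd_mul).1 h3
  obtain ⟨x1, x2, h1, h2', e2⟩ := (Nat.dvd_mul).1 h2
  obtain ⟨a, ha, rfl⟩ := (Nat.dvd_prime_pow (by norm_num)).1 h1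
  obtain ⟨b, hb, rfl⟩ := (Nat.dvd_prime_pow (by norm_num)).1 h2'
  unfold allD at h
  simp only [List.all_eq_true] at h
  have h7a : 7 ^ a ∈ [1, 7, 49, 343, 2401, 16807, 117649] := by interval_cases a <;> decide
  have h7b : 13 ^ b ∈ [1, 13, 169, 2197] := by interval_cases b <;> decide
  have key : ∀ {p x : ℕ}, p.Prime → x ∣ p → x ∈ [1, p] := by
    intro p x hp hx
    rcases (Nat.dvd_prime hp).1 hx with h1 | h1 <;> rw [h1] <;> simp
  have := h _ h7a _ h7b _ (key (by norm_num) h3') _ (key (by norm_num) h4') _ (key (by norm_num) h5') _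
    (key (by norm_num) h6') _ (key (by norm_num) h7)
  rw [← e7, ← e6, ← e5, ← e4, ← e3, ← e2]
  exact this

theorem chk_all : allD (fun D => chk (4 * D - 3) && chk (12 * D - 3)) = true := by decide +kernel

theorem mem_Qs {q : ℕ} (hq : 1 ≤ q) (h : nn q ∣ 7 ^ 6 * 13 ^ 3 * 19 * 31 * 37 * 43 * 67) : q ∈ Qs := by
  have h1 := allD_spec chk_all h
  simp only [Bool.and_eq_true] at h1
  obtain ⟨t, ht, e1, -⟩ := sq_eq hq
  have hd := dd_mul_nn hq
  rw [e1] at hd
  have e2 : 2 * q - 1 = 2 * t + 1 := by omega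
  rcases dd_cases q with ⟨h2, -⟩ | ⟨h2, -⟩
  · refine chk_spec h1.1 hq ?_
    rw [e2]
    rw [h2, one_mul] at hd
    rw [hd]
    have : (2 * t + 1) * (2 * t + 1) + 3 = 4 * (t ^ 2 + t + 1) := by ring
    omega
  · refine chk_spec h1.2 hq ?_
    rw [e2]
    rw [h2] at hd
    have : (2 * t + 1) * (2 * t + 1) + 3 = 4 * (t ^ 2 + t + 1) := by ring
    omega

/-- every sporadic order divides `(primes ≢ 1 mod 6)^50 * 7⁶ 13³ 19 31 37 43 67` -/
theorem dvd_check : ∀ N ∈ H603.SporElim.L, N ∣ (2 * 3 * 5 * 11 * 17 * 23 * 29 * 41 * 47 * 59 * 71) ^ 50 *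
    (7 ^ 6 * 13 ^ 3 * 19 * 31 * 37 * 43 * 67) := by decide +kernel

theorem final_check : ∀ N ∈ H603.SporElim.L, ∀ q ∈ Qs, 5 < q → q % 2 = 1 → nn q ∣ N →
    ∃ s ∈ [5, 7, 11, 13, 17, 19, 23, 29, 31, 41, 47, 59, 71], s ∣ N ∧ ¬ s ∣ q * (q ^ 2 - 1) * nn q := by decide +kernel

/-- a prime divisor of the order -/
theorem UCtx.prime_dvd {T : Type*} [Group T] [Finite T] {p q s : ℕ} (h : UCtx T p q) (hs : s.Prime)
    (hd : s ∣ Nat.card T) : s ∣ q * (q ^ 2 - 1) * nn q := by
  have := Fact.mk hs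
  obtain ⟨x, hx⟩ := exists_prime_orderOf_dvd_card' s hd
  have h5 := h.h5
  have hq1 : 1 ≤ q := by omega
  obtain ⟨t, ht, e1, e2⟩ := sq_eq hq1
  have h1 := h.om x
  rw [hx] at h1
  have hA : q + 1 ∣ q ^ 2 - 1 := by
    rw [e2, ht]
    exact Dvd.intro_left _ rfl
  rcases h1 with h1 | h1 | h1 | h1
  · exact ((h1.trans hA).mul_left _).mul_right _
  · have h2 : s ∣ p * (q + 1) := by
      rw [← dd_mul_p (p := p) (q := q)]
      exact h1.mul_left _
    rcases (Nat.Prime.dvd_mul hs).1 h2 with h3 | h3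
    · obtain ⟨f, hf, hqf⟩ := h.hq
      have h4 : s ∣ q := by
        rw [hqf]
        exact h3.trans (dvd_pow_self p (by omega))
      exact (h4.mul_right _).mul_right _
    · exact ((h3.trans hA).mul_left _).mul_right _
  · have h2 : s ∣ q ^ 2 - 1 := by
      rw [← dd_mul_sq hq1]
      exact h1.mul_left _
    exact (h2.mul_left _).mul_right _
  · exact h1.mul_left _

theorem UCtx.not_sporadic {T : Type*} [Group T] [Finite T] {p q : ℕ} (h : UCtx T p q) :
    ¬ (IsSporadicGroup T ∨ Lie.IsoTits T) := by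
  intro hS
  have hmem := H603.SporElim.card_mem hS
  have h5 := h.h5
  have hq1 : 1 ≤ q := by omega
  have hdvd := h.iso.dvd_card
  have hq : q ∈ Qs := by
    refine mem_Qs hq1 (dvd_of_primes (hdvd.trans (dvd_check _ hmem)) fun r hr hrn hd => ?_)
    have h6 := mod_three_of_dvd hq1 hr hrn
    have h7 := h.iso.ne_two hrn
    have h8 := hr.dvd_of_dvd_pow hd
    have key : ∀ {a b : ℕ}, r ∣ a * b → b.Prime → b % 3 ≠ 1 → r ∣ a := by
      intro a b hab hb hb3
      rcases (Nat.Prime.dvd_mul hr).1 hab with h9 | h9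
      · exact h9
      · exact absurd ((Nat.prime_dvd_prime_iff_eq hr hb).1 h9 ▸ h6) hb3
    have h9 := key h8 (by norm_num) (by norm_num)
    have h10 := key h9 (by norm_num) (by norm_num)
    have h11 := key h10 (by norm_num) (by norm_num)
    have h12 := key h11 (by norm_num) (by norm_num)
    have h13 := key h12 (by norm_num) (by norm_num)
    have h14 := key h13 (by norm_num) (by norm_num)
    have h15 := key h14 (by norm_num) (by norm_num)
    have h16 := key h15 (by norm_num) (by norm_num)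
    have h17 := key h16 (by norm_num) (by norm_num)
    have h18 := key h17 (by norm_num) (by norm_num)
    exact h7 ((Nat.prime_dvd_prime_iff_eq hr Nat.prime_two).1 h18)
  obtain ⟨f, hf, hqf⟩ := h.hq
  have hqo : Odd q := by rw [hqf]; exact (h.hp.odd_of_ne_two h.hp2).pow
  obtain ⟨s, hs, hsN, hsn⟩ := final_check _ hmem q hq h5 (Nat.odd_iff.1 hqo) hdvd
  have hsp : s.Prime := by
    simp only [List.mem_cons, List.not_mem_nil, or_false] at hs
    rcases hs with rfl | rfl | rfl | rfl | rfl | rfl | rfl | rfl | rfl | rfl | rfl | rfl | rfl <;> norm_num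
  exact hsn (h.prime_dvd hsp hsN)

end Cfsg.Agent.H360.Iso
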